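import Mathlib.RingTheory.Localization.Away.Basic
import Mathlib.RingTheory.FinitePresentation
import Mathlib.RingTheory.TensorProduct.Basic
import Mathlib.RingTheory.Finiteness.ModuleFinitePresentation
import Mathlib.RingTheory.RingHom.Finite
import Mathlib.LinearAlgebra.TensorProduct.RightExactness
import Mathlib.LinearAlgebra.TensorProduct.Pi
import Mathlib.RingTheory.Ideal.Operations

/-!
# The weakly universal finite open piece of a quasi-finite algebra

`A` is an `R`-algebra with a map from a finitely presented finite algebra `C` which is an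
isomorphism over basic opens `D(h k)` covering `Spec A`.  Idempotents `ε` of `A ⊗ B` with
`(A ⊗ B)[1/ε]` finite over `B` are images of idempotents of `C ⊗ B` lying in the ideal of the `h k`,
and these are parametrised by a finitely presented `R`-algebra.
-/

universe u

set_option linter.style.haveILetI false

open scoped TensorProduct

namespace Groth.FlatMor2.FiniteOpen

section Core

variable {C A : Type*} [CommRing C] [CommRing A] (φ : C →+* A) {r : ℕ} (h : Fin r → C)
  (surj : ∀ k a, ∃ (n : ℕ) (c : C), φ c = φ (h k) ^ n * a)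
include surj

lemma mul_mem_range {e : C} (he : IsIdempotentElem e) (hmem : e ∈ Ideal.span (Set.range h)) (a : A) :
    ∃ c, φ c = φ e * a := by
  choose n c hc using fun k => surj k a
  have h1 : Ideal.span (Set.range h) ≤ (Ideal.span (Set.range fun k => h k ^ n k)).radical := by
    rw [Ideal.span_le]
    rintro _ ⟨k, rfl⟩
    exact ⟨n k, Ideal.subset_span ⟨k, rfl⟩⟩
  obtain ⟨N, hN⟩ := h1 hmem
  have hN' : e ^ (N + 1) ∈ Ideal.span (Set.range fun k => h k ^ n k) := by
    rw [pow_succ]
    exact Ideal.mul_mem_right _ _ hN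
  rw [he.pow_succ_eq, Ideal.mem_span_range_iff_exists_fun] at hN'
  obtain ⟨y, hy⟩ := hN'
  refine ⟨∑ k, y k * c k, ?_⟩
  rw [← hy, map_sum, map_sum, Finset.sum_mul]
  refine Finset.sum_congr rfl fun k _ => ?_
  rw [map_mul, map_mul, map_pow, hc, mul_assoc]

lemma exists_idempotent_lift (span : Ideal.span (Set.range (φ ∘ h)) = ⊤)
    (inj : ∀ k x, φ x = 0 → ∃ n : ℕ, h k ^ n * x = 0)
    {ε : A} (hε : IsIdempotentElem ε) {m : ℕ} (G : Fin m → A)
    (hG : ∀ a, ∃ q : Fin m → C, ε * a = ∑ j, φ (q j) * G j) :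
    ∃ e : C, IsIdempotentElem e ∧ e ∈ Ideal.span (Set.range h) ∧ φ e = ε := by
  classical
  choose n c hc using surj
  let N := Finset.univ.sup fun p : Fin r × Fin m => n p.1 (G p.2)
  have key : ∀ k a, ∃ x, φ x = φ (h k) ^ N * (ε * a) := by
    intro k a
    obtain ⟨q, hq⟩ := hG a
    refine ⟨∑ g, q g * (h k ^ (N - n k (G g)) * c k (G g)), ?_⟩
    rw [hq, Finset.mul_sum, map_sum]
    refine Finset.sum_congr rfl fun g _ => ?_
    have hle : n k (G g) ≤ N :=
      Finset.le_sup (f := fun p : Fin r × Fin m => n p.1 (G p.2)) (b := (k, g)) (Finset.mem_univ _)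
    rw [map_mul, map_mul, map_pow, hc, ← mul_assoc (φ (h k) ^ (N - n k (G g))), ← pow_add,
      Nat.sub_add_cancel hle]
    ring
  have h1 : Ideal.span (Set.range (φ ∘ h)) ≤
      (Ideal.span (Set.range fun k => φ (h k) ^ (N + 1))).radical := by
    rw [Ideal.span_le]
    rintro _ ⟨k, rfl⟩
    exact ⟨N + 1, Ideal.subset_span ⟨k, rfl⟩⟩
  obtain ⟨M, hM⟩ := h1 (span ▸ Submodule.mem_top : (1 : A) ∈ Ideal.span (Set.range (φ ∘ h)))
  rw [one_pow, Ideal.mem_span_range_iff_exists_fun] at hM
  obtain ⟨b, hb⟩ := hM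
  choose x hx using fun k => key k (b k)
  let z := ∑ k, h k * x k
  have hz : φ z = ε := by
    calc φ z = ∑ k, φ (h k) * (φ (h k) ^ N * (ε * b k)) := by simp only [z, map_sum, map_mul, hx]
      _ = ε * ∑ k, b k * φ (h k) ^ (N + 1) := by
        rw [Finset.mul_sum]
        exact Finset.sum_congr rfl fun k _ => by ring
      _ = ε := by rw [hb, mul_one]
  have hzmem : z ∈ Ideal.span (Set.range h) :=
    Ideal.sum_mem _ fun k _ => Ideal.mul_mem_right _ _ (Ideal.subset_span ⟨k, rfl⟩)
  let I : Ideal C := LinearMap.ker (LinearMap.mulRight C (z * z - z))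
  have h2 : Ideal.span (Set.range h) ≤ I.radical := by
    rw [Ideal.span_le]
    rintro _ ⟨k, rfl⟩
    obtain ⟨m, hm⟩ := inj k (z * z - z) (by rw [map_sub, map_mul, hz, hε.eq, sub_self])
    exact ⟨m, hm⟩
  obtain ⟨L, hL⟩ := h2 hzmem
  change z ^ L * (z * z - z) = 0 at hL
  have h3 : z ^ (L + 1) * z = z ^ (L + 1) := by linear_combination hL
  have h4 : ∀ m : ℕ, z ^ (L + 1) * z ^ m = z ^ (L + 1) := by
    intro m
    induction m with
    | zero => rw [pow_zero, mul_one]
    | succ m ih => rw [pow_succ z m, ← mul_assoc, ih, h3]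
  refine ⟨z ^ (L + 1), h4 (L + 1), ?_, ?_⟩
  · rw [pow_succ']
    exact Ideal.mul_mem_right _ _ hzmem
  · rw [map_pow, hz, hε.pow_succ_eq]

lemma surjective_away {e : C} (he : IsIdempotentElem e) (hmem : e ∈ Ideal.span (Set.range h)) :
    Function.Surjective ((algebraMap A (Localization.Away (φ e))).comp φ) := by
  have hidem : IsIdempotentElem (φ e) := he.map φ
  have hunit : algebraMap A (Localization.Away (φ e)) (φ e) = 1 := by
    have hu := IsLocalization.Away.algebraMap_isUnit (S := Localization.Away (φ e)) (φ e)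
    exact hu.mul_left_cancel ((hidem.map (algebraMap A (Localization.Away (φ e)))).eq.trans (mul_one _).symm)
  intro x
  obtain ⟨n, a, ha⟩ := IsLocalization.Away.surj (φ e) x
  obtain ⟨c, hc⟩ := mul_mem_range φ h surj he hmem a
  refine ⟨c, ?_⟩
  rw [RingHom.comp_apply, hc, map_mul, hunit, one_mul, ← ha, hunit, one_pow, mul_one]

end Core

section Versal

variable {R : Type u} [CommRing R]

/-- Coordinates in `(Fin m → R) ⊗ P`. -/
noncomputable def coord (m : ℕ) (P : Type u) [AddCommGroup P] [Module R P] :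
    (Fin m → R) ⊗[R] P ≃ₗ[R] (Fin m → P) :=
  TensorProduct.comm R _ _ ≪≫ₗ TensorProduct.piScalarRight R R P (Fin m)

lemma coord_tmul {m : ℕ} {P : Type u} [AddCommGroup P] [Module R P] (v : Fin m → R) (p : P) :
    coord m P (v ⊗ₜ p) = fun i => v i • p :=
  TensorProduct.piScalarRightHom_tmul R R P (Fin m) p v

lemma exists_eq_sum {m : ℕ} {P : Type u} [AddCommGroup P] [Module R P] (w : (Fin m → R) ⊗[R] P) :
    ∃ ζ : Fin m → P, w = ∑ i, (Pi.single i (1 : R) : Fin m → R) ⊗ₜ ζ i := by
  refine ⟨coord m P w, (coord m P).injective ?_⟩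
  funext i
  simp only [map_sum, coord_tmul, Finset.sum_apply]
  rw [Finset.sum_eq_single i (fun j _ hj => by rw [Pi.single_eq_of_ne (Ne.symm hj), zero_smul])
    (fun hi => absurd (Finset.mem_univ i) hi), Pi.single_eq_same, one_smul]

/-- An element of `C ⊗ P` becomes zero over a weakly universal finitely presented `P`-algebra. -/
theorem exists_versal_zero {C : Type u} [CommRing C] [Algebra R C] [Module.FinitePresentation R C]
    {P : Type u} [CommRing P] [Algebra R P] [Algebra.FinitePresentation R P] (z : C ⊗[R] P) :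
    ∃ (Q : Type u) (_ : CommRing Q) (_ : Algebra R Q) (π : P →ₐ[R] Q),
      Algebra.FinitePresentation R Q ∧ Algebra.TensorProduct.map (AlgHom.id R C) π z = 0 ∧
      ∀ (B : Type u) [CommRing B] [Algebra R B] (g : P →ₐ[R] B),
        Algebra.TensorProduct.map (AlgHom.id R C) g z = 0 → ∃ q : Q →ₐ[R] B, q.comp π = g := by
  obtain ⟨m, N, p₀, g₀, hp₀, hex⟩ := Module.FinitePresentation.exists_fin' R C
  obtain ⟨w, hw⟩ := LinearMap.rTensor_surjective P hp₀ z
  obtain ⟨ζ, rfl⟩ := exists_eq_sum w
  rw [map_sum] at hw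
  simp only [LinearMap.rTensor_tmul] at hw
  subst hw
  let T := MvPolynomial (Fin N) P
  let rel : Fin m → T := fun i =>
    MvPolynomial.C (ζ i) - ∑ j, g₀ (Pi.single j 1) i • MvPolynomial.X j
  let I : Ideal T := Ideal.span (Set.range rel)
  let π : P →ₐ[R] T ⧸ I := (IsScalarTower.toAlgHom R T (T ⧸ I)).comp (IsScalarTower.toAlgHom R P T)
  have hfp : Algebra.FinitePresentation R T := Algebra.FinitePresentation.trans R P T
  refine ⟨T ⧸ I, inferInstance, inferInstance, π,
    Algebra.FinitePresentation.quotient ⟨(Set.finite_range rel).toFinset, by simp [I]⟩, ?_, ?_⟩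
  · have hπ : ∀ i, π (ζ i) = ∑ j, g₀ (Pi.single j 1) i • Ideal.Quotient.mk I (MvPolynomial.X j) := by
      intro i
      have h := Ideal.Quotient.eq_zero_iff_mem.2 (Ideal.subset_span ⟨i, rfl⟩ : rel i ∈ I)
      rw [map_sub, sub_eq_zero, map_sum] at h
      exact h
    simp only [map_sum, Algebra.TensorProduct.map_tmul, AlgHom.coe_id, id_eq, hπ,
      TensorProduct.tmul_sum, TensorProduct.tmul_smul]
    rw [Finset.sum_comm]
    refine Finset.sum_eq_zero fun j _ => ?_
    have h0 : p₀ (g₀ (Pi.single j 1)) = 0 := hex.apply_apply_eq_zero _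
    calc ∑ i, g₀ (Pi.single j 1) i • (p₀ (Pi.single i 1) ⊗ₜ[R] Ideal.Quotient.mk I (MvPolynomial.X j))
        = p₀ (∑ i, g₀ (Pi.single j 1) i • (Pi.single i (1 : R) : Fin m → R)) ⊗ₜ[R]
            Ideal.Quotient.mk I (MvPolynomial.X j) := by
          simp only [map_sum, map_smul, TensorProduct.sum_tmul, TensorProduct.smul_tmul']
      _ = 0 := by
          rw [← pi_eq_sum_univ' (g₀ (Pi.single j 1)), h0, TensorProduct.zero_tmul]
  · intro B _ _ g hg
    have hg' : LinearMap.rTensor B p₀ (∑ i, (Pi.single i (1 : R) : Fin m → R) ⊗ₜ g (ζ i)) = 0 := by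
      simpa only [map_sum, LinearMap.rTensor_tmul, Algebra.TensorProduct.map_tmul, AlgHom.coe_id,
        id_eq] using hg
    obtain ⟨v, hv⟩ := ((rTensor_exact (R := R) B hex hp₀) _).1 hg'
    obtain ⟨b, rfl⟩ := exists_eq_sum v
    have hcoord : ∀ i, g (ζ i) = ∑ j, g₀ (Pi.single j 1) i • b j := by
      intro i
      have h := congrFun (congrArg (coord m B) hv) i
      simp only [map_sum, LinearMap.rTensor_tmul, coord_tmul, Finset.sum_apply] at h
      rw [Finset.sum_eq_single i (fun j _ hj => by rw [Pi.single_eq_of_ne (Ne.symm hj), zero_smul])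
        (fun hi => absurd (Finset.mem_univ i) hi), Pi.single_eq_same, one_smul] at h
      exact h.symm
    letI := g.toRingHom.toAlgebra
    haveI : IsScalarTower R P B := IsScalarTower.of_algebraMap_eq fun x => (g.commutes x).symm
    let ev : T →ₐ[P] B := MvPolynomial.aeval b
    have hev : ∀ i, ev (rel i) = 0 := fun i => by
      change ev (MvPolynomial.C (ζ i) - _) = 0
      rw [map_sub, map_sum, MvPolynomial.aeval_C, sub_eq_zero]
      refine (hcoord i).trans (Finset.sum_congr rfl fun j _ => ?_)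
      rw [← algebraMap_smul P (g₀ (Pi.single j 1) i) (MvPolynomial.X j), map_smul,
        MvPolynomial.aeval_X, algebraMap_smul]
    refine ⟨Ideal.Quotient.liftₐ I (ev.restrictScalars R) ?_, ?_⟩
    · intro x hx
      have hle : I ≤ RingHom.ker ev.toRingHom := Ideal.span_le.2 fun y ⟨i, hi⟩ => hi ▸ hev i
      exact hle hx
    · ext x
      exact MvPolynomial.aeval_C b x

end Versal

end Groth.FlatMor2.FiniteOpen
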