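import Groth.Agent.FlatMor2.FiniteOpen.Universal
import Groth.Agent.LocImm.FiniteFactorFP

/-!
# The weakly universal finite open subscheme of a quasi-finite affine morphism
-/

universe u

open CategoryTheory CategoryTheory.Limits AlgebraicGeometry TopologicalSpace
open scoped TensorProduct

set_option linter.style.haveILetI false

namespace Groth.FlatMor2.FiniteOpen

/-- Ring-theoretic data of a quasi-finite affine morphism of finite presentation. -/
theorem exists_factor_data {X Y : Scheme.{u}} (f : X ⟶ Y) [IsAffine X] [IsAffine Y] [LocallyQuasiFinite f]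
    [LocallyOfFinitePresentation f] :
    letI : Algebra Γ(Y, ⊤) Γ(X, ⊤) := f.appTop.hom.toAlgebra
    ∃ (C : Type u) (_ : CommRing C) (_ : Algebra Γ(Y, ⊤) C) (φ : C →ₐ[Γ(Y, ⊤)] Γ(X, ⊤)) (r : ℕ)
      (h : Fin r → C), Module.FinitePresentation Γ(Y, ⊤) C ∧
      (∀ k a, ∃ (n : ℕ) (c : C), φ c = φ (h k) ^ n * a) ∧
      (∀ k, ∃ ψ : Γ(X, ⊤) →ₐ[Γ(Y, ⊤)] Localization.Away (h k), ∀ c, ψ (φ c) = algebraMap C _ c) ∧
      Ideal.span (Set.range (φ ∘ h)) = ⊤ := by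
  classical
  letI : Algebra Γ(Y, ⊤) Γ(X, ⊤) := f.appTop.hom.toAlgebra
  obtain ⟨T, j, π, hj, hjq, hπ, hπfp, hf⟩ := Groth.LocImmersion.FiniteFactorFP.exists_factor f
  haveI : IsAffine T := isAffine_of_isAffineHom π
  letI : Algebra Γ(Y, ⊤) Γ(T, ⊤) := π.appTop.hom.toAlgebra
  haveI : Module.Finite Γ(Y, ⊤) Γ(T, ⊤) := IsFinite.finite_app π ⊤ (isAffineOpen_top Y)
  haveI : Algebra.FinitePresentation Γ(Y, ⊤) Γ(T, ⊤) :=
    HasRingHomProperty.appTop (P := @LocallyOfFinitePresentation) π inferInstance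
  let φ : Γ(T, ⊤) →ₐ[Γ(Y, ⊤)] Γ(X, ⊤) := ⟨j.appTop.hom, fun x => by
    change j.appTop (π.appTop x) = f.appTop x
    subst hf
    rw [Scheme.Hom.comp_appTop, CommRingCat.comp_apply]⟩
  let jS : Spec Γ(X, ⊤) ⟶ Spec Γ(T, ⊤) := Spec.map j.appTop
  haveI : IsOpenImmersion jS := by
    have h : jS = X.isoSpec.inv ≫ j ≫ T.isoSpec.hom := by
      rw [← Scheme.isoSpec_hom_naturality, Iso.inv_hom_id_assoc]
    rw [h]
    infer_instance
  obtain ⟨t, ht⟩ := (isCompact_range jS.continuous).elim_finite_subcover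
    (fun c : {c : Γ(T, ⊤) // (PrimeSpectrum.basicOpen c : Set (PrimeSpectrum Γ(T, ⊤))) ⊆ Set.range jS} =>
      (PrimeSpectrum.basicOpen c.1 : Set (PrimeSpectrum Γ(T, ⊤))))
    (fun c => (PrimeSpectrum.basicOpen c.1).2) (fun x hx => by
      obtain ⟨_, ⟨c, rfl⟩, hxc, hc⟩ :=
        PrimeSpectrum.isTopologicalBasis_basic_opens.exists_subset_of_mem_open hx jS.isOpenEmbedding.isOpen_range
      exact Set.mem_iUnion.2 ⟨⟨c, hc⟩, hxc⟩)
  let h : Fin t.card → Γ(T, ⊤) := fun k => (t.equivFin.symm k).1.1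
  have hbij : ∀ k, Function.Bijective (Localization.awayMap φ.toRingHom (h k)) := fun k => by
    let r : Γ(T, ⊤) := h k
    have hs : Surjective (jS ∣_ (PrimeSpectrum.basicOpen r)) := by
      refine ⟨fun ⟨y, hy⟩ => ?_⟩
      obtain ⟨x, hx⟩ := (t.equivFin.symm k).1.2 hy
      exact ⟨⟨x, show jS x ∈ _ from hx.symm ▸ hy⟩, Subtype.ext (by rw [morphismRestrict_base_coe]; exact hx)⟩
    have hiso : IsIso (jS ∣_ (PrimeSpectrum.basicOpen r)) :=
      (isIso_iff_isOpenImmersion_and_surjective _).2 ⟨inferInstance, hs⟩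
    have := ((MorphismProperty.isomorphisms Scheme.{u}).arrow_mk_iso_iff
      (SpecMapRestrictBasicOpenIso j.appTop r)).1 hiso
    exact isIso_SpecMap_iff.1 (this : IsIso _)
  refine ⟨Γ(T, ⊤), inferInstance, inferInstance, φ, t.card, h,
    Module.FinitePresentation.of_finite_of_finitePresentation _ _, fun k a => ?_, fun k => ?_, ?_⟩
  · obtain ⟨c, n, hc⟩ := Localization.awayMap_surjective_iff.1 (hbij k).2 a
    exact ⟨n, c, hc⟩
  · let e := AlgEquiv.ofBijective (Localization.awayMapₐ φ (h k)) (hbij k)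
    refine ⟨(e.symm : _ →ₐ[Γ(Y, ⊤)] _).comp (IsScalarTower.toAlgHom Γ(Y, ⊤) Γ(X, ⊤)
      (Localization.Away (φ (h k)))), fun c => ?_⟩
    change e.symm (algebraMap Γ(X, ⊤) _ (φ c)) = _
    rw [AlgEquiv.symm_apply_eq]
    simp [e, Localization.awayMapₐ, IsLocalization.Away.mapₐ, IsLocalization.Away.map]
  · by_contra hne
    obtain ⟨M, hM, hle⟩ := Ideal.exists_le_maximal _ hne
    obtain ⟨c, hc, hxc⟩ := Set.mem_iUnion₂.1 (ht ⟨(⟨M, hM.isPrime⟩ : PrimeSpectrum Γ(X, ⊤)), rfl⟩)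
    refine hxc (hle (Ideal.subset_span ⟨t.equivFin ⟨c, hc⟩, ?_⟩))
    change φ (t.equivFin.symm (t.equivFin ⟨c, hc⟩)).1.1 = j.appTop c.1
    rw [Equiv.symm_apply_apply]
    rfl

section Coordinates

variable {X Y Z : Scheme.{u}} (f : X ⟶ Y) (b : Z ⟶ Y) [IsAffine X] [IsAffine Y]
  [Algebra Γ(Y, ⊤) Γ(X, ⊤)] (hA : algebraMap Γ(Y, ⊤) Γ(X, ⊤) = f.appTop.hom)
  {B : Type u} [CommRing B] [Algebra Γ(Y, ⊤) B] (i : Z ≅ Spec (.of B))
  (hb : i.hom ≫ Spec.map (CommRingCat.ofHom (algebraMap Γ(Y, ⊤) B)) ≫ Y.isoSpec.inv = b)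

omit [IsAffine X] [IsAffine Y] in
lemma isFinite_basicOpen_comp {R B' : CommRingCat.{u}} (ε : R) (g : B' ⟶ R) {Z : Scheme.{u}}
    (i : Z ≅ Spec B') :
    IsFinite (Scheme.Opens.ι (X := Spec R) (PrimeSpectrum.basicOpen ε) ≫ Spec.map g ≫ i.inv) ↔
      ((algebraMap R (Localization.Away ε)).comp g.hom).Finite := by
  rw [← basicOpenIsoSpecAway_hom_SpecMap ε, Category.assoc,
    MorphismProperty.cancel_left_of_respectsIso @IsFinite, ← Category.assoc, ← Spec.map_comp,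
    MorphismProperty.cancel_right_of_respectsIso @IsFinite, IsFinite.SpecMap_iff]
  rfl

/-- The second projection in coordinates. -/
noncomputable abbrev inclR : CommRingCat.of B ⟶ CommRingCat.of (Γ(X, ⊤) ⊗[Γ(Y, ⊤)] B) :=
  CommRingCat.ofHom (Algebra.TensorProduct.includeRight : B →ₐ[Γ(Y, ⊤)] Γ(X, ⊤) ⊗[Γ(Y, ⊤)] B).toRingHom

include hA hb in
lemma isPullback_coord :
    IsPullback (Spec.map (CommRingCat.ofHom (Algebra.TensorProduct.includeLeftRingHom :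
        Γ(X, ⊤) →+* Γ(X, ⊤) ⊗[Γ(Y, ⊤)] B)) ≫ X.isoSpec.inv)
      (Spec.map (inclR (X := X) (Y := Y) (B := B)) ≫ i.inv) f b := by
  refine (isPullback_SpecMap_of_isPushout _ _ _ _
    (CommRingCat.isPushout_tensorProduct Γ(Y, ⊤) Γ(X, ⊤) B)).of_iso (Iso.refl _) X.isoSpec.symm i.symm
      Y.isoSpec.symm (Category.id_comp _).symm (Category.id_comp _).symm ?_ ?_
  · change Spec.map (CommRingCat.ofHom (algebraMap Γ(Y, ⊤) Γ(X, ⊤))) ≫ Y.isoSpec.inv = X.isoSpec.inv ≫ f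
    rw [hA]
    exact Scheme.isoSpec_inv_naturality f
  · change Spec.map (CommRingCat.ofHom (algebraMap Γ(Y, ⊤) B)) ≫ Y.isoSpec.inv = i.inv ≫ b
    rw [← hb, Iso.inv_hom_id_assoc]

/-- The fibre product in coordinates. -/
noncomputable abbrev coordIso :
    Spec (.of (Γ(X, ⊤) ⊗[Γ(Y, ⊤)] B)) ≅ pullback f b :=
  (isPullback_coord f b hA i hb).isoPullback

include hA hb in
lemma isFinite_iff_awayRight (ε : Γ(X, ⊤) ⊗[Γ(Y, ⊤)] B) (U : (pullback f b).Opens)
    (hU : (coordIso f b hA i hb).hom ⁻¹ᵁ U = PrimeSpectrum.basicOpen ε) :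
    IsFinite (U.ι ≫ pullback.snd f b) ↔ (awayRight ε).Finite := by
  let e := coordIso f b hA i hb
  rw [← MorphismProperty.cancel_left_of_respectsIso @IsFinite (e.hom ∣_ U), morphismRestrict_ι_assoc,
    IsPullback.isoPullback_hom_snd,
    ← MorphismProperty.cancel_left_of_respectsIso @IsFinite ((Spec _).isoOfEq hU).inv]
  rw [Scheme.isoOfEq_inv_ι_assoc]
  exact isFinite_basicOpen_comp (R := CommRingCat.of (Γ(X, ⊤) ⊗[Γ(Y, ⊤)] B)) ε _ i

end Coordinates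

/-- The statement of the milestone. -/
theorem exists_universal_finite_open {X Y : Scheme.{u}} (f : X ⟶ Y) [IsAffine X] [IsAffine Y]
    [LocallyQuasiFinite f] [LocallyOfFinitePresentation f] :
    ∃ (Yu : Scheme.{u}) (a : Yu ⟶ Y) (Uu : (pullback f a).Opens), LocallyOfFinitePresentation a ∧
      QuasiCompact a ∧ QuasiSeparated a ∧ IsFinite (Uu.ι ≫ pullback.snd f a) ∧
      ∀ (Y' : Scheme.{u}) (b : Y' ⟶ Y) (U' : (pullback f b).Opens), IsAffine Y' →
        IsFinite (U'.ι ≫ pullback.snd f b) →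
        ∃ (c : Y' ⟶ Yu) (hc : c ≫ a = b),
          (pullback.map f b f a (𝟙 X) c (𝟙 Y) ((Category.comp_id f).trans (Category.id_comp f).symm)
            ((Category.comp_id b).trans hc.symm)) ⁻¹ᵁ Uu = U' := by
  letI : Algebra Γ(Y, ⊤) Γ(X, ⊤) := f.appTop.hom.toAlgebra
  obtain ⟨C, _, _, φ, r, h, hC, hsurj, hψ, hspan⟩ := exists_factor_data f
  obtain ⟨Q, _, _, e, hQ, hfin, huniv⟩ := exists_universal φ h hsurj hψ hspan
  let a : Spec (.of Q) ⟶ Y := Spec.map (CommRingCat.ofHom (algebraMap Γ(Y, ⊤) Q)) ≫ Y.isoSpec.inv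
  have ha : (Iso.refl (Spec (.of Q))).hom ≫ Spec.map (CommRingCat.ofHom (algebraMap Γ(Y, ⊤) Q)) ≫
      Y.isoSpec.inv = a := Category.id_comp _
  let ea := coordIso f a rfl (Iso.refl (Spec (.of Q))) ha
  let Uu : (pullback f a).Opens := ea.inv ⁻¹ᵁ PrimeSpectrum.basicOpen e
  have hUu : ea.hom ⁻¹ᵁ Uu = PrimeSpectrum.basicOpen e := by
    simp [Uu, ← Scheme.Hom.comp_preimage]
  refine ⟨Spec (.of Q), a, Uu, ?_, inferInstance, inferInstance,
    (isFinite_iff_awayRight f a rfl _ ha e Uu hUu).2 hfin, ?_⟩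
  · have hp : LocallyOfFinitePresentation (Spec.map (CommRingCat.ofHom (algebraMap Γ(Y, ⊤) Q))) :=
      (HasRingHomProperty.Spec_iff (P := @LocallyOfFinitePresentation)).2
        (RingHom.finitePresentation_algebraMap.2 hQ)
    infer_instance
  intro Y' b U' hY' hfinU
  letI : Algebra Γ(Y, ⊤) Γ(Y', ⊤) := b.appTop.hom.toAlgebra
  have hb : Y'.isoSpec.hom ≫ Spec.map (CommRingCat.ofHom (algebraMap Γ(Y, ⊤) Γ(Y', ⊤))) ≫
      Y.isoSpec.inv = b := by
    rw [RingHom.algebraMap_toAlgebra, CommRingCat.ofHom_hom, Scheme.isoSpec_inv_naturality,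
      Iso.hom_inv_id_assoc]
  let eb := coordIso f b rfl Y'.isoSpec hb
  haveI := hfinU
  haveI : UniversallyClosed U'.ι :=
    UniversallyClosed.of_comp_of_isSeparated U'.ι (pullback.snd f b)
  let W : (Spec (.of (Γ(X, ⊤) ⊗[Γ(Y, ⊤)] Γ(Y', ⊤)))).Opens := eb.hom ⁻¹ᵁ U'
  have hclopen : IsClopen (X := PrimeSpectrum (Γ(X, ⊤) ⊗[Γ(Y, ⊤)] Γ(Y', ⊤))) W.carrier := by
    refine ⟨IsClosed.preimage eb.hom.continuous ?_, (eb.hom ⁻¹ᵁ U').2⟩
    have h := U'.ι.isClosedMap.isClosed_range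
    rwa [Scheme.Opens.range_ι] at h
  obtain ⟨ε, hε, hUε⟩ := PrimeSpectrum.isClopen_iff.1 hclopen
  have hUε' : eb.hom ⁻¹ᵁ U' = PrimeSpectrum.basicOpen ε := Opens.ext hUε
  obtain ⟨c, hc⟩ := huniv Γ(Y', ⊤) ε hε ((isFinite_iff_awayRight f b rfl _ hb ε U' hUε').1 hfinU)
  let cs : Y' ⟶ Spec (.of Q) := Y'.isoSpec.hom ≫ Spec.map (CommRingCat.ofHom c.toRingHom)
  have hcs : cs ≫ a = b := by
    have hc' : CommRingCat.ofHom (algebraMap Γ(Y, ⊤) Q) ≫ CommRingCat.ofHom c.toRingHom =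
        CommRingCat.ofHom (algebraMap Γ(Y, ⊤) Γ(Y', ⊤)) := by
      ext x
      exact c.commutes x
    rw [Category.assoc, ← Spec.map_comp_assoc, hc']
    exact hb
  have hinj : Function.Injective (eb.hom ⁻¹ᵁ ·) := fun U V hUV => by
    simpa [← Scheme.Hom.comp_preimage] using congrArg (eb.inv ⁻¹ᵁ ·) hUV
  refine ⟨cs, hcs, hinj ?_⟩
  change eb.hom ⁻¹ᵁ _ = eb.hom ⁻¹ᵁ _
  have key : eb.hom ≫ pullback.map f b f a (𝟙 X) cs (𝟙 Y)
      ((Category.comp_id f).trans (Category.id_comp f).symm) ((Category.comp_id b).trans hcs.symm) =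
      Spec.map (CommRingCat.ofHom (Algebra.TensorProduct.map (AlgHom.id Γ(Y, ⊤) Γ(X, ⊤)) c).toRingHom) ≫
        ea.hom := by
    refine pullback.hom_ext ?_ ?_
    · rw [Category.assoc, pullback.lift_fst, Category.comp_id, IsPullback.isoPullback_hom_fst,
        Category.assoc, IsPullback.isoPullback_hom_fst, ← Spec.map_comp_assoc]
      congr 2
      ext x
      simp
    · rw [Category.assoc, pullback.lift_snd, IsPullback.isoPullback_hom_snd_assoc]
      simp only [cs, ea, coordIso, Category.assoc, IsPullback.isoPullback_hom_snd, Iso.inv_hom_id_assoc,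
        Iso.refl_inv, Category.comp_id, ← Spec.map_comp]
      congr 1
  rw [hUε', ← Scheme.Hom.comp_preimage, key, Scheme.Hom.comp_preimage, hUu]
  exact (PrimeSpectrum.comap_basicOpen _ e).trans (congrArg PrimeSpectrum.basicOpen hc)

end Groth.FlatMor2.FiniteOpen
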