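import Groth.Agent.FlatMor2.FiniteOpen.Algebra

/-!
# The parameter algebra of finite open pieces
-/

universe u

set_option linter.style.haveILetI false

open scoped TensorProduct

namespace Groth.FlatMor2.FiniteOpen

/-- The algebra map `B → (A ⊗ B)[1/ε]`. -/
noncomputable abbrev awayRight {R A B : Type u} [CommRing R] [CommRing A] [CommRing B] [Algebra R A]
    [Algebra R B] (ε : A ⊗[R] B) : B →+* Localization.Away ε :=
  (algebraMap (A ⊗[R] B) (Localization.Away ε)).comp
    (Algebra.TensorProduct.includeRight : B →ₐ[R] A ⊗[R] B).toRingHom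

variable {R C A : Type u} [CommRing R] [CommRing C] [CommRing A] [Algebra R C] [Algebra R A]
  (φ : C →ₐ[R] A) {r : ℕ} (h : Fin r → C)

section BaseChange

variable (B : Type u) [CommRing B] [Algebra R B]

/-- The base change of `φ`. -/
noncomputable abbrev φB : C ⊗[R] B →ₐ[R] A ⊗[R] B := Algebra.TensorProduct.map φ (AlgHom.id R B)

/-- The base change of `h`. -/
abbrev hB : Fin r → C ⊗[R] B := fun k => h k ⊗ₜ 1

variable {B}

lemma surj_baseChange (surj : ∀ k a, ∃ (n : ℕ) (c : C), φ c = φ (h k) ^ n * a) (k : Fin r) (a : A ⊗[R] B) :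
    ∃ (n : ℕ) (c : C ⊗[R] B), φB φ B c = φB φ B (hB (R := R) h B k) ^ n * a := by
  induction a using TensorProduct.induction_on with
  | zero => exact ⟨0, 0, by simp⟩
  | tmul a b =>
    obtain ⟨n, c, hc⟩ := surj k a
    exact ⟨n, c ⊗ₜ b, by simp [hc]⟩
  | add x y hx hy =>
    obtain ⟨n, c, hc⟩ := hx
    obtain ⟨n', c', hc'⟩ := hy
    refine ⟨n + n', hB (R := R) h B k ^ n' * c + hB (R := R) h B k ^ n * c', ?_⟩
    rw [map_add, map_mul, map_mul, map_pow, map_pow, hc, hc']
    ring

lemma inj_baseChange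
    (hψ : ∀ k, ∃ ψ : A →ₐ[R] Localization.Away (h k), ∀ c, ψ (φ c) = algebraMap C _ c)
    (k : Fin r) (x : C ⊗[R] B) (hx : φB φ B x = 0) : ∃ n : ℕ, hB (R := R) h B k ^ n * x = 0 := by
  obtain ⟨ψ, hψ⟩ := hψ k
  let L := Localization.Away (hB (R := R) h B k)
  let incl : C →ₐ[R] L :=
    (IsScalarTower.toAlgHom R (C ⊗[R] B) L).comp Algebra.TensorProduct.includeLeft
  have hu : ∀ y : Submonoid.powers (h k), IsUnit (incl y) := by
    rintro ⟨_, n, rfl⟩
    change IsUnit (incl (h k ^ n))
    rw [map_pow]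
    exact (IsLocalization.Away.algebraMap_isUnit (S := L) (hB (R := R) h B k)).pow n
  let θ : Localization.Away (h k) →ₐ[R] L := IsLocalization.liftAlgHom hu
  let ψB : A ⊗[R] B →ₐ[R] L := Algebra.TensorProduct.lift (θ.comp ψ)
    ((IsScalarTower.toAlgHom R (C ⊗[R] B) L).comp Algebra.TensorProduct.includeRight)
    (fun _ _ => Commute.all _ _)
  have key : ψB.comp (φB φ B) = IsScalarTower.toAlgHom R (C ⊗[R] B) L := by
    refine Algebra.TensorProduct.ext' fun c b => ?_
    simp only [AlgHom.comp_apply, φB, Algebra.TensorProduct.map_tmul, AlgHom.coe_id, id_eq, ψB,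
      Algebra.TensorProduct.lift_tmul, hψ, θ, IsLocalization.liftAlgHom_apply, IsLocalization.lift_eq]
    change algebraMap (C ⊗[R] B) L (c ⊗ₜ 1) * algebraMap (C ⊗[R] B) L (1 ⊗ₜ b) =
      algebraMap (C ⊗[R] B) L (c ⊗ₜ b)
    rw [← map_mul, Algebra.TensorProduct.tmul_mul_tmul, mul_one, one_mul]
  have h0 : algebraMap (C ⊗[R] B) L x = 0 := by
    have h1 := AlgHom.congr_fun key x
    rw [AlgHom.comp_apply, hx, map_zero] at h1
    exact h1.symm
  obtain ⟨⟨_, n, rfl⟩, hn⟩ := (IsLocalization.map_eq_zero_iff (Submonoid.powers (hB (R := R) h B k)) L x).1 h0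
  exact ⟨n, hn⟩

lemma span_baseChange (span : Ideal.span (Set.range (φ ∘ h)) = ⊤) :
    Ideal.span (Set.range ((φB φ B) ∘ hB (R := R) h B)) = ⊤ := by
  have : (φB φ B) ∘ hB (R := R) h B = (Algebra.TensorProduct.includeLeftRingHom : A →+* A ⊗[R] B) ∘ (φ ∘ h) := by
    funext k
    simp [φB, hB]
  rw [this, Set.range_comp, ← Ideal.map_span, span, Ideal.map_top]

end BaseChange

/-- **The weakly universal finite open piece.** -/
theorem exists_universal [Module.FinitePresentation R C]
    (surj : ∀ k a, ∃ (n : ℕ) (c : C), φ c = φ (h k) ^ n * a)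
    (hψ : ∀ k, ∃ ψ : A →ₐ[R] Localization.Away (h k), ∀ c, ψ (φ c) = algebraMap C _ c)
    (span : Ideal.span (Set.range (φ ∘ h)) = ⊤) :
    ∃ (Q : Type u) (_ : CommRing Q) (_ : Algebra R Q) (e : A ⊗[R] Q),
      Algebra.FinitePresentation R Q ∧ (awayRight e).Finite ∧
      ∀ (B : Type u) [CommRing B] [Algebra R B] (ε : A ⊗[R] B), IsIdempotentElem ε →
        (awayRight ε).Finite → ∃ c : Q →ₐ[R] B, Algebra.TensorProduct.map (AlgHom.id R A) c e = ε := by
  classical
  obtain ⟨m, s, hs⟩ := Module.Finite.exists_fin' R C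
  let t : Fin m → C := fun i => s (Pi.single i 1)
  let P := MvPolynomial (Fin r × Fin m) R
  let e₀ : C ⊗[R] P := ∑ k, ∑ i, (h k * t i) ⊗ₜ MvPolynomial.X (k, i)
  obtain ⟨Q, _, _, π, hQ, hz, huniv⟩ := exists_versal_zero (e₀ * e₀ - e₀)
  let eQ : C ⊗[R] Q := Algebra.TensorProduct.map (AlgHom.id R C) π e₀
  have hidem : IsIdempotentElem eQ := by
    rw [map_sub, map_mul, sub_eq_zero] at hz
    exact hz
  have hmem : eQ ∈ Ideal.span (Set.range (hB (R := R) h Q)) := by
    simp only [eQ, e₀, map_sum, Algebra.TensorProduct.map_tmul, AlgHom.coe_id, id_eq]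
    refine Ideal.sum_mem _ fun k _ => Ideal.sum_mem _ fun i _ => ?_
    rw [show ((h k * t i) ⊗ₜ[R] π (MvPolynomial.X (k, i)) : C ⊗[R] Q) =
      hB (R := R) h Q k * (t i ⊗ₜ π (MvPolynomial.X (k, i))) by simp [hB]]
    exact Ideal.mul_mem_right _ _ (Ideal.subset_span ⟨k, rfl⟩)
  refine ⟨Q, inferInstance, inferInstance, φB φ Q eQ, hQ, ?_, ?_⟩
  · have hC : ((Algebra.TensorProduct.includeRight : Q →ₐ[R] C ⊗[R] Q).toRingHom).Finite := by
      have h1 : (algebraMap Q (Q ⊗[R] C)).Finite :=
        RingHom.finite_algebraMap.2 inferInstance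
      have h2 : (Algebra.TensorProduct.comm R Q C).toAlgHom.toRingHom.Finite :=
        RingHom.Finite.of_surjective _ (Algebra.TensorProduct.comm R Q C).surjective
      convert h2.comp h1
      ext q
      simp
    have hsurj := surjective_away (φB φ Q).toRingHom (hB (R := R) h Q) (surj_baseChange φ h surj) hidem hmem
    have := (RingHom.Finite.of_surjective _ hsurj).comp hC
    convert this using 1
    ext q
    change algebraMap _ _ ((1 : A) ⊗ₜ[R] q) = algebraMap _ _ (φB φ Q ((1 : C) ⊗ₜ[R] q))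
    simp [φB]
  · intro B _ _ ε hε hfin
    letI : Algebra B (Localization.Away ε) := (awayRight ε).toAlgebra
    haveI : Module.Finite B (Localization.Away ε) := hfin
    obtain ⟨d, g, hg⟩ := Module.Finite.exists_fin (R := B) (M := Localization.Away ε)
    have hunit : algebraMap (A ⊗[R] B) (Localization.Away ε) ε = 1 :=
      (IsLocalization.Away.algebraMap_isUnit (S := Localization.Away ε) ε).mul_left_cancel
        ((hε.map (algebraMap _ (Localization.Away ε))).eq.trans (mul_one _).symm)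
    have hlift : ∀ x : Localization.Away ε, ∃ a, algebraMap (A ⊗[R] B) _ a = x := fun x => by
      obtain ⟨n, a, ha⟩ := IsLocalization.Away.surj ε x
      rw [hunit, one_pow, mul_one] at ha
      exact ⟨a, ha.symm⟩
    choose g' hg' using fun j => hlift (g j)
    have hG : ∀ a, ∃ q : Fin d → C ⊗[R] B, ε * a = ∑ j, φB φ B (q j) * (ε * g' j) := by
      intro a
      obtain ⟨b, hb⟩ := (Submodule.mem_span_range_iff_exists_fun B).1
        (hg ▸ Submodule.mem_top : algebraMap (A ⊗[R] B) (Localization.Away ε) a ∈ _)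
      refine ⟨fun j => 1 ⊗ₜ b j, ?_⟩
      have h0 : algebraMap (A ⊗[R] B) (Localization.Away ε) (a - ∑ j, ((1 : A) ⊗ₜ b j) * g' j) = 0 := by
        rw [map_sub, map_sum, sub_eq_zero, ← hb]
        refine Finset.sum_congr rfl fun j _ => ?_
        rw [map_mul, hg', Algebra.smul_def]
        rfl
      obtain ⟨⟨_, n, rfl⟩, hn⟩ := (IsLocalization.map_eq_zero_iff (Submonoid.powers ε) _ _).1 h0
      have h1 : ε * (a - ∑ j, ((1 : A) ⊗ₜ b j) * g' j) = 0 := by
        have h2 := congrArg (ε * ·) hn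
        simp only [mul_zero, ← mul_assoc, ← pow_succ', hε.pow_succ_eq] at h2
        exact h2
      rw [mul_sub, sub_eq_zero] at h1
      rw [h1, Finset.mul_sum]
      refine Finset.sum_congr rfl fun j _ => ?_
      simp [φB, mul_left_comm]
    obtain ⟨e, he, hemem, heq⟩ := exists_idempotent_lift (φB φ B).toRingHom (hB (R := R) h B)
      (surj_baseChange φ h surj) (span_baseChange φ h span) (inj_baseChange φ h hψ) hε
      (fun j => ε * g' j) hG
    obtain ⟨y, hy⟩ := Ideal.mem_span_range_iff_exists_fun.1 hemem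
    have hgen : ∀ x : C ⊗[R] B, ∃ b : Fin m → B, x = ∑ i, t i ⊗ₜ b i := by
      intro x
      obtain ⟨w, rfl⟩ := LinearMap.rTensor_surjective B hs x
      obtain ⟨ζ, rfl⟩ := exists_eq_sum w
      exact ⟨ζ, by simp [t]⟩
    choose b hb using fun k => hgen (y k)
    let g₁ : P →ₐ[R] B := MvPolynomial.aeval fun p => b p.1 p.2
    have hge : Algebra.TensorProduct.map (AlgHom.id R C) g₁ e₀ = e := by
      simp only [e₀, map_sum, Algebra.TensorProduct.map_tmul, AlgHom.coe_id, id_eq, g₁]
      rw [← hy]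
      refine Finset.sum_congr rfl fun k _ => ?_
      rw [hb k, Finset.sum_mul]
      refine Finset.sum_congr rfl fun i _ => ?_
      rw [show (MvPolynomial.aeval (fun p : Fin r × Fin m => b p.1 p.2)) (MvPolynomial.X (R := R) (k, i)) = b k i
        from MvPolynomial.aeval_X _ _]
      simp [hB, mul_comm]
    obtain ⟨q, hq⟩ := huniv B g₁ (by rw [map_sub, map_mul, hge, he.eq, sub_self])
    refine ⟨q, ?_⟩
    have hcomm : (Algebra.TensorProduct.map (AlgHom.id R A) q).comp
        ((φB φ Q).comp (Algebra.TensorProduct.map (AlgHom.id R C) π)) =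
        (φB φ B).comp (Algebra.TensorProduct.map (AlgHom.id R C) g₁) := by
      refine Algebra.TensorProduct.ext' fun c p => ?_
      simp [φB, ← hq]
    exact (AlgHom.congr_fun hcomm e₀).trans ((congrArg (φB φ B) hge).trans heq)

end Groth.FlatMor2.FiniteOpen
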